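import Groth.Prelude.Def_EtCech
import Mathlib.CategoryTheory.Limits.Preserves.Shapes.Products
import Mathlib.CategoryTheory.Limits.Preserves.Shapes.Over

/-! # Čech complexes along product preserving functors -/

universe w v v' u u' a a'

open CategoryTheory CategoryTheory.Limits Opposite Simplicial

set_option autoImplicit false
set_option backward.defeqAttrib.useBackward true
set_option backward.isDefEq.respectTransparency false

noncomputable section

namespace Groth.L28.CechPush

variable {C : Type u} [Category.{v} C] [HasFiniteProducts C] {D : Type u'} [Category.{v'} D] [HasFiniteProducts D]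
  {A : Type a} [Category.{a'} A] [HasProducts.{w} A]
  (G : C ⥤ D) [PreservesFiniteProducts G] {ι : Type w} (U : ι → C) (P : Dᵒᵖ ⥤ A)

/-- Evaluations on the powers of a family and of its image. -/
def evalIso (α : Type) [Finite α] :
    ((FormalCoproduct.evalOp.{w} C A).obj (G.op ⋙ P)).obj (op ((FormalCoproduct.mk _ U).power α)) ≅
      ((FormalCoproduct.evalOp.{w} D A).obj P).obj (op ((FormalCoproduct.mk _ (G.obj ∘ U)).power α)) :=
  Pi.mapIso fun i : α → ι => P.mapIso (PreservesProduct.iso G (U ∘ i)).symm.op

theorem mapIso_π {B : Type*} [Category B] {β : Type*} [HasProductsOfShape β B] {f g : β → B}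
    (e : ∀ i, f i ≅ g i) (i : β) : (Pi.mapIso e).hom ≫ Pi.π g i = Pi.π f i ≫ (e i).hom := by
  simp [Pi.mapIso]

omit [HasProducts.{w} A] in
theorem iso_inv_map {α β : Type} [Finite α] [Finite β] (F : β → C) (h : α → β) :
    (PreservesProduct.iso G F).inv ≫ G.map (Pi.lift fun x => Pi.π F (h x)) =
      (Pi.lift fun x => Pi.π (fun b => G.obj (F b)) (h x)) ≫ (PreservesProduct.iso G (F ∘ h)).inv := by
  rw [Iso.inv_comp_eq, ← Category.assoc, Iso.eq_comp_inv, PreservesProduct.iso_hom, PreservesProduct.iso_hom]
  refine Pi.hom_ext _ _ fun a => ?_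
  simp only [Category.assoc, Pi.lift_π, piComparison_comp_π, Function.comp_def]
  exact (G.map_comp _ _).symm.trans (congrArg G.map (Pi.lift_π _ a))

/-- The cosimplicial objects agree. -/
def cosimpIso :
    (FormalCoproduct.cosimplicialObjectFunctor (A := A) (FormalCoproduct.mk _ U).cech).obj (G.op ⋙ P) ≅
      (FormalCoproduct.cosimplicialObjectFunctor (A := A) (FormalCoproduct.mk _ (G.obj ∘ U)).cech).obj P :=
  NatIso.ofComponents (fun n => evalIso G U P (ToType n)) fun {n m} f => by
    refine Pi.hom_ext _ _ fun i => ?_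
    dsimp [evalIso, FormalCoproduct.cech, FormalCoproduct.power, FormalCoproduct.mapPower]
    erw [Category.assoc, mapIso_π, ← Category.assoc, Pi.lift_π, Category.assoc, Category.assoc, Pi.lift_π,
      ← Category.assoc (Pi.mapIso _).hom, mapIso_π, Category.assoc]
    refine congrArg (_ ≫ ·) ((P.map_comp _ _).symm.trans (Eq.trans
      (congrArg P.map (Quiver.Hom.unop_inj ?_)) (P.map_comp _ _)))
    exact iso_inv_map G (U ∘ i) _

/-- The Čech complexes agree. -/
def cechIso [Preadditive A] : (cechComplexFunctor U).obj (G.op ⋙ P) ≅ (cechComplexFunctor (G.obj ∘ U)).obj P :=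
  (AlgebraicTopology.alternatingCofaceMapComplex A).mapIso (cosimpIso G U P)

end Groth.L28.CechPush
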